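import Cfsg.Agent.Lib.InvolChar.WreathProducer

/-!
# Wreathed Sylow 2-subgroups: the constituent of degree `Q ^ 2 + Q + 1` on the base

* `baseVal` : the sum of `ζ (c x)` over the three coordinates `(a, b, - a - b)`, plus `(Q - 1) ζ (c x)` for
  each pair of equal coordinates;
* `WreathData.base_values` : a principal character of degree `Q ^ 2 + Q + 1` with value `-Q` at `z` takes
  these values on the base, and `d i = ζ (c i)` describes it on the sections of the diagonal;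
* `WCover.small_values` : in the centraliser setting; so `b (z y) = - St (y)` for odd `y`.
-/

set_option autoImplicit false
set_option linter.unusedSectionVars false

open scoped ComplexConjugate

namespace Cfsg.Agent.InvolChar

open Cfsg Cfsg.Agent.Char
open Cfsg.Agent.BrauerPairs (oneIrr)

universe u v

/-- The values on the base. -/
noncomputable def baseVal {n : ℕ} (Q : ℤ) (c : ZMod (2 ^ n)) (p : ZMod (2 ^ n) × ZMod (2 ^ n)) : ℂ :=
  zeta (c * p.1) + zeta (c * p.2) + zeta (c * (-p.1 - p.2)) +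
    ((Q : ℂ) - 1) * ((if p.1 = p.2 then zeta (c * p.1) else 0) +
      (if p.2 = -p.1 - p.2 then zeta (c * p.2) else 0) +
      (if -p.1 - p.2 = p.1 then zeta (c * p.1) else 0))

theorem baseVal_rot {n : ℕ} (Q : ℤ) (c a b : ZMod (2 ^ n)) :
    baseVal Q c (b, -a - b) = baseVal Q c (a, b) := by
  simp only [baseVal]
  rw [show -b - (-a - b) = a by ring]
  by_cases h : -a - b = a
  · rw [if_pos h, if_pos h, show zeta (c * (-a - b)) = zeta (c * a) by rw [h]]
    by_cases h2 : a = b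
    · subst h2; ring
    · rw [if_neg h2, if_neg h2]; ring
  · rw [if_neg h, if_neg h]
    by_cases h2 : a = b
    · subst h2; ring
    · rw [if_neg h2, if_neg h2]; ring

/-- Two of three coordinates with sum zero have the same order. -/
theorem exists_same_order {n : ℕ} (a b : ZMod (2 ^ n)) :
    addOrderOf a = addOrderOf b ∨ addOrderOf b = addOrderOf (-a - b) ∨
      addOrderOf (-a - b) = addOrderOf a := by
  have hd : ∀ x : ZMod (2 ^ n), ∃ k, addOrderOf x = 2 ^ k := fun x => by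
    obtain ⟨k, -, hk⟩ := (Nat.dvd_prime_pow Nat.prime_two).1
      (addOrderOf_dvd_iff_nsmul_eq_zero.2 (show (2 ^ n) • x = 0 by
        rw [nsmul_eq_mul, ZMod.natCast_self, zero_mul]))
    exact ⟨k, hk⟩
  obtain ⟨i, hi⟩ := hd a
  obtain ⟨j, hj⟩ := hd b
  obtain ⟨k, hk⟩ := hd (-a - b)
  have key : ∀ {x y w : ZMod (2 ^ n)} {r s t : ℕ}, addOrderOf x = 2 ^ r → addOrderOf y = 2 ^ s →
      addOrderOf w = 2 ^ t → x + y + w = 0 → s < r → t < r → False := by
    intro x y w r s t hx hy hw hsum hs ht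
    have e : ∀ {v : ZMod (2 ^ n)} {m : ℕ}, addOrderOf v = 2 ^ m → m < r → (2 ^ (r - 1)) • v = 0 :=
      fun hv hm => addOrderOf_dvd_iff_nsmul_eq_zero.1 (hv ▸ pow_dvd_pow 2 (by omega))
    have hxe : (2 ^ (r - 1)) • x = 0 := by
      have := congrArg (fun v => (2 ^ (r - 1)) • v) hsum
      simpa [smul_add, e hy hs, e hw ht] using this
    have h2 := addOrderOf_dvd_iff_nsmul_eq_zero.2 hxe
    rw [hx] at h2
    have := (Nat.pow_dvd_pow_iff_le_right Nat.one_lt_two).1 h2
    omega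
  rw [hi, hj, hk]
  simp only [Nat.pow_right_injective le_rfl |>.eq_iff]
  by_contra hne
  push Not at hne
  obtain ⟨h1, h2, h3⟩ := hne
  rcases lt_or_gt_of_ne h1 with h | h <;> rcases lt_or_gt_of_ne h2 with h' | h' <;>
    rcases lt_or_gt_of_ne h3 with h'' | h''
  all_goals first
    | omega
    | exact key hi hj hk (by ring) (by omega) (by omega)
    | exact key hj hi hk (by ring) (by omega) (by omega)
    | exact key hk hi hj (by ring) (by omega) (by omega)

variable {G : Type u} [Group G] [Fintype G] {z : G} {C : Subgroup G} [Fintype C]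
  [Fintype (IrrCharacter G)] {M : Ideal AlgInt}

namespace WreathData

variable {n : ℕ} {Q o : ℤ} {N2 : ℂ} {pt : ZMod (2 ^ n) × ZMod (2 ^ n) → G}
  {θ : ZMod (2 ^ n) → ZMod (2 ^ n) → C → ℂ} {T : ZMod (2 ^ n) → C → ℂ}
  {cf : (ZMod (2 ^ n) × ZMod (2 ^ n) → ℂ) → C → ℂ} {Sect : (G → ℂ) → (ZMod (2 ^ n) → ℂ) → Prop}
  (hW : WreathData z C M n Q o N2 pt θ T cf Sect)
include hW

/-- A character of degree `3` modulo `4` does not take a value `v` at the involutions with `1 + v` odd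
below four: the multiplicity of the trivial character on a four-group is an integer. -/
theorem four_dvd_value (B : IrrCharacter G) {d v : ℤ} (h1 : (B : G → ℂ) 1 = (d : ℂ))
    (hz : (B : G → ℂ) z = (v : ℂ)) : (4 : ℤ) ∣ d + 3 * v := by
  classical
  have hφ := isGeneralizedCharacter_of_isCharacter (IsIrrCharacter.isCharacter B.2)
  obtain ⟨m, hm, -, -⟩ := inversion hW.base hφ
  set h := halfI n with hh
  have hc : ∀ {g : G}, IsConj z g → (B : G → ℂ) g = (v : ℂ) := fun hg => by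
    obtain ⟨k, rfl⟩ := isConj_iff.1 hg
    rw [IsIrrCharacter.isClassFunction B.2 z k, hz]
  have hh0 := hW.half_ne
  have h2 : ∀ p : ZMod (2 ^ n) × ZMod (2 ^ n), p + p = 0 → p ≠ 0 → IsConj z (pt p) := by
    intro p hp hp0
    refine hW.one_class _ (orderOf_eq_prime (by rw [pow_two, ← hW.base.add, hp, hW.base.one]) ?_)
    intro e
    -- the trivial point is the only one over `1` of these four
    have hb : ∀ x : ZMod (2 ^ n), x + x = 0 → x = 0 ∨ x = h := fun x hx => by
      by_cases hx0 : x = 0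
      · exact Or.inl hx0
      · exact Or.inr (eq_of_order_two hx hW.half_add hx0 hh0)
    have hz1 : z ≠ 1 := fun e1 => by
      have := hW.setup.z2
      rw [e1, orderOf_one] at this
      omega
    obtain ⟨ha, hb'⟩ := Prod.ext_iff.1 hp
    obtain ⟨a, b⟩ := p
    have hzh : pt (h, h) ≠ 1 := by rw [hW.pt_z]; exact hz1
    rcases hb a ha with rfl | rfl <;> rcases hb b hb' with rfl | rfl
    · exact hp0 rfl
    · obtain ⟨k, hk⟩ := isConj_iff.1 (hW.base.rot 0 h)
      rw [e, mul_one, mul_inv_cancel, neg_zero, zero_sub,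
        show -h = h by linear_combination -hW.half_add] at hk
      exact hzh hk.symm
    · obtain ⟨k, hk⟩ := isConj_iff.1 (hW.base.swap h 0)
      rw [e, mul_one, mul_inv_cancel] at hk
      obtain ⟨k', hk'⟩ := isConj_iff.1 (hW.base.rot 0 h)
      rw [← hk, mul_one, mul_inv_cancel, neg_zero, zero_sub,
        show -h = h by linear_combination -hW.half_add] at hk'
      exact hzh hk'.symm
    · exact hzh e
  have e0 := hm 0
  have e1 := hm (h, h)
  have e2 := hm (h, 0)
  have e3 := hm (0, h)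
  rw [hW.base.one, h1] at e0
  rw [hW.pt_z, hz] at e1
  rw [hc (h2 (h, 0) (Prod.ext hW.half_add (add_zero 0)) fun e => hh0 (Prod.ext_iff.1 e).1)] at e2
  rw [hc (h2 (0, h) (Prod.ext (add_zero 0) hW.half_add) fun e => hh0 (Prod.ext_iff.1 e).2)] at e3
  have key : ∀ ξ : ZMod (2 ^ n) × ZMod (2 ^ n), chi2 ξ 0 + chi2 ξ (h, h) + chi2 ξ (h, 0) + chi2 ξ (0, h) =
      ((4 * if Odd ξ.1 ∨ Odd ξ.2 then 0 else 1 : ℤ) : ℂ) := by
    intro ξ
    have hxh : ∀ x : ZMod (2 ^ n), zeta (x * h) = if Odd x then -1 else 1 := fun x => by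
      rw [mul_comm, hh, WPar.zeta_half_mul hW.two_le]
    simp only [chi2, Prod.fst_zero, Prod.snd_zero, mul_zero, add_zero, zero_add, zeta_zero, zeta_add, hxh]
    by_cases ha : Odd ξ.1 <;> by_cases hb : Odd ξ.2 <;> simp [ha, hb]
    norm_num
  have hs : ((d + 3 * v : ℤ) : ℂ) = ((4 * ∑ ξ, m ξ * if Odd ξ.1 ∨ Odd ξ.2 then 0 else 1 : ℤ) : ℂ) := by
    have : ((d + 3 * v : ℤ) : ℂ) = transf m 0 + transf m (h, h) + transf m (h, 0) + transf m (0, h) := by
      rw [e0, e1, e2, e3]; push_cast; ring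
    rw [this]
    simp only [transf, ← Finset.sum_add_distrib, ← mul_add, key]
    rw [Finset.mul_sum]
    push_cast
    exact Finset.sum_congr rfl fun ξ _ => by ring
  exact ⟨_, Int.cast_inj.1 hs⟩

/-- The constituent of degree `Q ^ 2 + Q + 1` on the base and on the diagonal sections. -/
theorem base_values : ∃ (B : IrrCharacter G) (c : ZMod (2 ^ n)) (d : ZMod (2 ^ n) → ℂ),
    Odd c ∧ B ∈ principalBlock M G ∧ B ≠ oneIrr G ∧
    (B : G → ℂ) 1 = (Q : ℂ) ^ 2 + (Q : ℂ) + 1 ∧ (B : G → ℂ) z = -(Q : ℂ) ∧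
    Sect (B : G → ℂ) d ∧ (∀ i, i ≠ 0 → d i = zeta (c * i)) ∧
    ∀ p, p ≠ 0 → (B : G → ℂ) (pt p) = baseVal Q c p := by
  classical
  have hm0 : Odd (1 : ZMod (2 ^ n)) := odd_one
  obtain ⟨B, hBB, hcB, hdeg, -⟩ := hW.small_constituent
  obtain ⟨e, s, he, hs, hrow, hdisj, heB, hev, hef⟩ := hW.exists_rot_data hm0
  obtain ⟨P, R, sP, sR, hP1, hR1, hPR, hP, hR, rowP, rowR, hPe, hRe, hsupp, vP, vR, -, -⟩ :=
    hW.pair_value hm0 hm0 he hs hrow hdisj heB hev hef
  have hB1 : (B : G → ℂ) 1 = (Q : ℂ) ^ 2 + (Q : ℂ) + 1 := by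
    rw [apply_one_eq, show ((charDegree (B : G → ℂ) : ℕ) : ℂ) = ((charDegree (B : G → ℂ) : ℤ) : ℂ) by simp,
      hdeg]
    push_cast; rfl
  have hB1' : (B : G → ℂ) 1 = ((Q ^ 2 + Q + 1 : ℤ) : ℂ) := by rw [hB1]; push_cast; rfl
  have hQ4 : (4 : ℤ) ∣ Q - 1 := by
    rw [hW.Q_sub]
    refine Dvd.dvd.mul_right ?_ _
    exact_mod_cast (show 4 ∣ 2 ^ n by
      rw [show (4 : ℕ) = 2 ^ 2 by norm_num]; exact pow_dvd_pow 2 hW.two_le)
  have hnot : ∀ v : ℤ, (4 : ℤ) ∣ v - 1 ∨ (4 : ℤ) ∣ v → (B : G → ℂ) z ≠ (v : ℂ) := by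
    intro v hv hz
    have h := hW.four_dvd_value B hB1' hz
    obtain ⟨k, hk⟩ := hQ4
    have e1 : Q ^ 2 + Q + 1 = 4 * (4 * k ^ 2 + 3 * k) + 3 := by
      rw [show Q = 4 * k + 1 by omega]; ring
    rw [e1] at h
    omega
  -- the other constituent
  obtain ⟨A, b, hA1, hAB, hb, hBe, rowA, rowB, hsup, hBz⟩ : ∃ (A : IrrCharacter G) (b : ℤ),
      A ≠ oneIrr G ∧ A ≠ B ∧ (b = 1 ∨ b = -1) ∧ (B ≠ oneIrr G ∧ B ≠ e ∧ A ≠ e) ∧
      coef (θ 1 1) A = b ∧
      (∀ l m, Odd m → coef (θ l m) B = if l = 1 then 1 else 0) ∧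
      (∀ i, coef (θ 1 1) i ≠ 0 → i = e ∨ i = B ∨ i = A) ∧ (B : G → ℂ) z = -(Q : ℂ) := by
    rcases hsupp B (by omega) with rfl | rfl | rfl
    · exfalso
      rw [hrow 1 1 hm0, if_pos rfl] at hcB
      rw [hcB, Int.cast_one, one_mul] at hev
      refine hnot (1 - Q) (Or.inr ?_) (by rw [hev]; push_cast; rfl)
      rw [← neg_sub]; exact hQ4.neg_right
    · have e1 : sP = 1 := by rw [rowP 1 1 hm0, if_pos rfl] at hcB; exact hcB
      subst e1
      rw [Int.cast_one, one_mul] at vP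
      refine ⟨R, sR, hR1, hPR.symm, hR, ⟨hP1, hPe, hRe⟩, by rw [rowR 1 1 hm0, if_pos rfl], rowP, hsupp,
        vP.resolve_left fun h => hnot 1 (Or.inl (by simp)) (by rw [h]; simp)⟩
    · have e1 : sR = 1 := by rw [rowR 1 1 hm0, if_pos rfl] at hcB; exact hcB
      subst e1
      rw [Int.cast_one, one_mul] at vR
      refine ⟨P, sP, hP1, hPR, hP, ⟨hR1, hRe, hPe⟩, by rw [rowP 1 1 hm0, if_pos rfl], rowR,
        fun i hi => (hsupp i hi).imp_right Or.symm,
        vR.resolve_left fun h => hnot 1 (Or.inl (by simp)) (by rw [h]; simp)⟩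
  obtain ⟨hB0, hBe, hAe⟩ := hBe
  obtain ⟨d, hd, hdint⟩ := hW.sect_exists B hBB
  -- the two decomposition coefficients on the diagonal
  have hsum : ∀ l0 i0 : ZMod (2 ^ n),
      ∑ l, zeta (l * (2 * i0)) * (coef (θ (l0 + l) (1 + 2 * l)) B : ℂ) = zeta ((1 - l0) * (2 * i0)) := by
    intro l0 i0
    rw [Finset.sum_eq_single (1 - l0)]
    · rw [rowB _ _ (hm0.add_even (even_two_mul _)), if_pos (by ring)]; simp
    · intro l _ hl
      rw [rowB _ _ (hm0.add_even (even_two_mul _)), if_neg (fun h => hl (by linear_combination h))]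
      simp
    · simp
  have hx : ∀ i0, i0 ≠ 0 → (B : G → ℂ) (pt (i0, i0)) - ((Q : ℂ) + 1) * d i0 = zeta (2 * i0) := by
    intro i0 hi0
    by_cases hh : i0 = halfI n
    · subst hh
      have h := hW.aform_half hBB hd hm0
      have h' := hsum 0 0
      simp only [mul_zero, zeta_zero, one_mul, zero_add] at h'
      rw [h'] at h
      rw [show (2 : ZMod (2 ^ n)) * halfI n = 0 by linear_combination hW.half_add, zeta_zero]
      exact h.symm
    · have h0 := hW.aform_pair hBB hd hi0 hm0 0 hh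
      have h1 := hW.aform_pair hBB hd hi0 hm0 1 hh
      rw [hsum] at h0 h1
      have e0 : zeta ((1 - 0) * (2 * i0)) = zeta (2 * i0) := by congr 1; ring
      have e1 : zeta ((1 - 1) * (2 * i0)) = 1 := by rw [sub_self, zero_mul, zeta_zero]
      rw [e0] at h0
      rw [e1] at h1
      simp only [mul_zero, zero_mul, neg_zero, zeta_zero, mul_one, one_mul] at h0 h1
      have hne1 : zeta (-(2 * i0)) - 1 ≠ 0 := fun h => by
        have h2 : -(2 * i0) = 0 := zeta_inj (by rw [zeta_zero]; exact sub_eq_zero.1 h)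
        rcases hW.two_roots.1 (show 2 * i0 = 2 * 0 by linear_combination -h2) with h3 | h3
        · exact hi0 h3
        · exact hh (by rw [h3, zero_add])
      set x := (B : G → ℂ) (pt (i0, i0)) - ((Q : ℂ) + 1) * d i0 with hxd
      set y := (B : G → ℂ) (pt (i0 + halfI n, i0 + halfI n)) - ((Q : ℂ) + 1) * d (i0 + halfI n)
      have hcc : zeta (2 * i0) * zeta (-(2 * i0)) = 1 := by rw [← zeta_add, add_neg_cancel, zeta_zero]
      have hxy : x + y - 2 * zeta (2 * i0) = 0 :=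
        (mul_eq_zero.1 (show (zeta (-(2 * i0)) - 1) * (x + y - 2 * zeta (2 * i0)) = 0 by
          linear_combination h0 - h1 - 2 * hcc)).resolve_left hne1
      have hcz : zeta (-i0) * zeta i0 = 1 := by rw [← zeta_add, neg_add_cancel, zeta_zero]
      linear_combination ((1 : ℂ) / 2) * zeta i0 * h0 + (1 / 2) * (1 + zeta i0) * hxy +
        (1 / 2) * (y - x) * hcz
  have hφ : IsGeneralizedCharacter G (fun g => ((1 : ℤ) : ℂ) * (B : G → ℂ) g) :=
    IsGeneralizedCharacter.intCast_smul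
      (isGeneralizedCharacter_of_isCharacter (IsIrrCharacter.isCharacter B.2)) 1
  have h2l : (2 : ZMod (2 ^ n)) ≠ 0 := hW.two_ne
  obtain ⟨W, hWs⟩ := exists_spec hW.base hφ hW.Q_sub
    (fun h => by have := hW.Q_large; rw [show Q = -1 by omega] at this; norm_num at this) hW.o_odd
    (d := fun i => ((1 : ℤ) : ℂ) * d i) (xF := fun κ => if 2 = κ then 1 else 0) (fun κ => by
      rw [Finset.sum_congr rfl fun i hi => by
        rw [Int.cast_one, one_mul, one_mul, hx i (Finset.mem_erase.1 hi).1], sum_erase_zeta, if_neg h2l]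
      push_cast
      ring)
    (fun κ => by simpa using hdint κ)
  have hV := hW.spec_small hBB (Or.inl rfl) hd hWs hB0 hA1 hAB fun f hf => by
    have hsy : IsSymm2 (hfun Q (fun g => ((1 : ℤ) : ℂ) * (B : G → ℂ) g) pt fun i => ((1 : ℤ) : ℂ) * d i) :=
      hfun_symm hW.base Q (IsGeneralizedCharacter.isClassFunction hφ) _
    have k := inner_supp hW.setup (hW.θ_good 1 1 hm0) (hW.cf_supp _ hsy)
    rw [hW.cf_theta _ 1 1 hsy hm0, sum_three (fun i : IrrCharacter G =>
      classInner (fun x : C => (i : G → ℂ) x)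
        (cf (hfun Q (fun g => ((1 : ℤ) : ℂ) * (B : G → ℂ) g) pt fun i => ((1 : ℤ) : ℂ) * d i)))
      hBe hAe hAB.symm hsup, hef _ hsy, mul_zero, zero_add, rowB 1 1 hm0, if_pos rfl, rowA, ← hf,
      Int.cast_one, one_mul] at k
    have bbb : (b : ℂ) * b = 1 := by rcases hb with rfl | rfl <;> norm_num
    rw [show classInner (fun x : C => (A : G → ℂ) x) f =
        -(b : ℂ) * classInner (fun x : C => (B : G → ℂ) x) f by
      linear_combination (b : ℂ) * k - classInner (fun x : C => (A : G → ℂ) x) f * bbb,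
      map_mul, map_neg, map_intCast]
    linear_combination (classInner (fun x : C => (B : G → ℂ) x) f *
      conj (classInner (fun x : C => (B : G → ℂ) x) f)) * bbb
  have hodd : ∀ κ, Odd (WreathComb.fibre W κ) ↔ κ = 2 :=
    WreathComb.parity_shift hW.two_le hWs.inv hV (fun κ => κ = 2)
      (fun x y hx' hy' => hx'.trans hy'.symm) fun κ κ' => by
        have := hWs.parity κ κ'
        rw [Int.even_sub] at this
        rw [this]
        by_cases h1 : κ = 2 <;> by_cases h2 : κ' = 2 <;> simp [h1, h2, Ne.symm]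
  have hn0 : n ≠ 0 := by have := hW.two_le; omega
  have hshape : ∃ (k σ : ℤ) (c : ZMod (2 ^ n)), (σ = 1 ∨ σ = -1) ∧ c ≠ 0 ∧ Odd c ∧ -(2 * c) = 2 ∧
      ∀ p, W p = k + if p ∈ WreathComb.orb c then σ else 0 := by
    obtain ⟨k, h | ⟨σ, hσ, h | ⟨c, hc, h⟩⟩⟩ := WreathComb.shape hW.two_le hWs.inv hV
    · exfalso
      have h2 := (hodd 2).2 rfl
      rw [WreathComb.fibre_eq (k := k) (s := 0) ∅ (fun p => by simpa using h p), zero_mul, add_zero] at h2
      obtain ⟨m, hm⟩ := WreathComb.two_dvd_pow_cast (n := n) (by omega)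
      rw [hm, mul_assoc] at h2
      exact (Int.not_odd_iff_even.2 (even_two_mul _)) h2
    · exact absurd ((hodd 0).1 (WreathComb.odd_fibre_zero (by omega) hσ h)).symm h2l
    · have hκ := (hodd _).1 (WreathComb.odd_fibre_orb (by omega) hc hσ h)
      refine ⟨k, σ, c, hσ, hc, ?_, hκ, h⟩
      rcases WPar.odd_or_even c with hc' | ⟨j, rfl⟩
      · exact hc'
      · exfalso
        have e := WreathComb.two_mul_par hn0 (c := -(2 * j)) (l := 1) (by linear_combination hκ) hW.two_le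
        rw [map_one, map_neg, map_mul, map_ofNat, show (2 : ZMod 2) = 0 by decide, zero_mul, neg_zero] at e
        exact zero_ne_one e
  obtain ⟨k, σ, c, hσ, hc0, hcodd, hc2, hWp⟩ := hshape
  have htr : ∀ p : ZMod (2 ^ n) × ZMod (2 ^ n), p ≠ 0 → transf W p =
      (σ : ℂ) * (zeta (c * p.1) + zeta (c * p.2) + zeta (c * (-p.1 - p.2))) := by
    intro p hp
    have e1 : ∀ ξ : ZMod (2 ^ n) × ZMod (2 ^ n), (W ξ : ℂ) * chi2 ξ p =
        (k : ℂ) * chi2 ξ p + if ξ ∈ WreathComb.orb c then (σ : ℂ) * chi2 ξ p else 0 := fun ξ => by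
      rw [hWp ξ]; split_ifs <;> push_cast <;> ring
    simp only [transf, e1, Finset.sum_add_distrib, ← Finset.mul_sum, chi2_sum, if_neg hp, mul_zero,
      zero_add, Finset.sum_ite_mem, Finset.univ_inter]
    rw [WreathComb.orb, Finset.sum_insert, Finset.sum_pair]
    · simp only [chi2]
      rw [show c * p.1 + 0 * p.2 = c * p.1 by ring, show 0 * p.1 + c * p.2 = c * p.2 by ring,
        show -c * p.1 + -c * p.2 = c * (-p.1 - p.2) by ring]
      ring
    · intro e; exact hc0 (neg_eq_zero.1 (Prod.ext_iff.1 e).1.symm)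
    · simp only [Finset.mem_insert, Finset.mem_singleton, Prod.mk.injEq, not_or, not_and]
      exact ⟨fun e => absurd e hc0, fun _ e => hc0 (neg_eq_zero.1 e.symm)⟩
  have hzc : ∀ i, zeta (c * (-i - i)) = zeta (2 * i) := fun i => by
    congr 1; linear_combination i * hc2
  have hdi : ∀ i, i ≠ 0 → 2 * d i = (σ : ℂ) * (2 * zeta (c * i) + zeta (2 * i)) - zeta (2 * i) := by
    intro i hi
    have h := hWs.eval (i, i) ⟨fun e => hi (Prod.ext_iff.1 e).1, rfl⟩
    rw [htr _ fun e => hi (Prod.ext_iff.1 e).1, hfun, if_pos rfl] at h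
    simp only [Int.cast_one, one_mul, hzc] at h
    linear_combination -h - hx i hi
  obtain rfl : σ = 1 := by
    refine hσ.resolve_right fun e => ?_
    subst e
    have h := hdi _ hW.half_ne
    have h' := hx _ hW.half_ne
    rw [show (2 : ZMod (2 ^ n)) * halfI n = 0 by linear_combination hW.half_add, zeta_zero] at h h'
    rw [hW.mul_half hcodd, hW.zeta_half] at h
    rw [hW.pt_z, hBz] at h'
    push_cast at h
    have hQ : (Q : ℂ) + 1 = 0 := by linear_combination -h' - ((Q : ℂ) + 1) / 2 * h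
    have hQ' : Q + 1 = 0 := by exact_mod_cast hQ
    have := hW.Q_large
    rw [show Q = -1 by omega] at this
    norm_num at this
  have hd' : ∀ i, i ≠ 0 → d i = zeta (c * i) := fun i hi => by
    have h := hdi i hi
    push_cast at h
    linear_combination h / 2
  refine ⟨B, c, d, hcodd, hBB, hB0, hB1, hBz, hd, hd', ?_⟩
  have hdp : ∀ p, IsDp p → (B : G → ℂ) (pt p) = baseVal Q c p := by
    intro p hp
    have h1 : ¬ p.2 = -p.1 - p.2 := fun h => hp.1 (by
      have e1 : p.1 = -2 * p.2 := by linear_combination h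
      have := double_eq (i := p.2) (by rw [← e1]; exact hp.2.symm)
      exact Prod.ext (by rw [e1, this, mul_zero]; rfl) this)
    have h2 : ¬ -p.1 - p.2 = p.1 := fun h => hp.1 (by
      have e1 : p.2 = -2 * p.1 := by linear_combination -h
      have := double_eq (i := p.1) (by rw [← e1]; exact hp.2)
      exact Prod.ext this (by rw [e1, this, mul_zero]; rfl))
    have h := hWs.eval p hp
    rw [htr p hp.1, hfun] at h
    simp only [Int.cast_one, one_mul] at h
    rw [baseVal, if_neg h1, if_neg h2]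
    by_cases e : p.1 = p.2
    · rw [if_pos e] at h ⊢
      rw [hd' _ fun e0 => hp.1 (Prod.ext e0 (e ▸ e0))] at h
      linear_combination -h
    · rw [if_neg e] at h ⊢
      linear_combination -h
  intro p hp
  have hrot : ∀ a b : ZMod (2 ^ n), (B : G → ℂ) (pt (b, -a - b)) = (B : G → ℂ) (pt (a, b)) := fun a b => by
    obtain ⟨g, hg⟩ := isConj_iff.1 (hW.base.rot a b)
    rw [← hg, IsIrrCharacter.isClassFunction B.2 _ g]
  obtain ⟨a, b⟩ := p
  have hp1 : (b, -a - b) ≠ (0 : ZMod (2 ^ n) × ZMod (2 ^ n)) := fun e => by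
    obtain ⟨e1, e2⟩ := Prod.ext_iff.1 e
    simp only [Prod.fst_zero, Prod.snd_zero] at e1 e2
    exact hp (Prod.ext (show a = 0 by linear_combination -e2 - e1) e1)
  have hp2 : (-a - b, a) ≠ (0 : ZMod (2 ^ n) × ZMod (2 ^ n)) := fun e => by
    obtain ⟨e1, e2⟩ := Prod.ext_iff.1 e
    simp only [Prod.fst_zero, Prod.snd_zero] at e1 e2
    exact hp (Prod.ext e2 (show b = 0 by linear_combination -e1 - e2))
  rcases exists_same_order a b with h | h | h
  · exact hdp _ ⟨hp, h⟩
  · rw [← hrot, ← baseVal_rot]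
    exact hdp _ ⟨hp1, h⟩
  · rw [← hrot, ← hrot b (-a - b), ← baseVal_rot, ← baseVal_rot Q c b (-a - b),
      show -b - (-a - b) = a by ring]
    exact hdp _ ⟨hp2, h⟩

end WreathData

variable {H : Type u} [Group H] [Finite H] [Fintype H] {n : ℕ} {φ : C →* H}
  {pt : ZMod (2 ^ n) × ZMod (2 ^ n) → G} {s : G}
  {ptH : ZMod (2 ^ n) × ZMod (2 ^ n) → H} {sH : H} {X : Type v} [MulAction H X] {q : ℕ} {δ : ℤ}

namespace WCover

/-- The values of the constituent of degree `Q ^ 2 + Q + 1`, `Q = δ q`. -/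
theorem small_values (hW : WCover z C φ pt s ptH sH) (hL : WLine H n ptH sH X q δ) (hM : IsPModular 2 M)
    (hlin : ∀ χ : IrrCharacter G, (χ : G → ℂ) 1 = 1 → χ = oneIrr G) :
    ∃ (B : IrrCharacter G) (c : ZMod (2 ^ n)), Odd c ∧ B ≠ oneIrr G ∧
      (B : G → ℂ) 1 = ((δ * q : ℤ) : ℂ) ^ 2 + ((δ * q : ℤ) : ℂ) + 1 ∧
      (B : G → ℂ) z = -((δ * q : ℤ) : ℂ) ∧
      (∀ p, p ≠ 0 → (B : G → ℂ) (pt p) = baseVal (δ * q) c p) ∧
      (∃ d, SectG hL z φ pt s (B : G → ℂ) d) ∧
      ∀ y : C, ¬ 2 ∣ orderOf y → (B : G → ℂ) (z * (y : G)) = -stein X δ (φ y) := by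
  obtain ⟨o, hodd, ho⟩ := hL.Q_sub
  obtain ⟨B, c, d, hc, -, hB0, hB1, hBz, hd, hd', hval⟩ := (hW.wreathData hL hM hlin ho hodd).base_values
  refine ⟨B, c, hc, hB0, hB1, hBz, hval, ⟨d, hd⟩, fun y hy => ?_⟩
  have hcy : Commute z (y : G) := (hW.setup.mem _).1 y.2
  have hzy : z ∈ Subgroup.zpowers (((hW.zC * y : C) : C) : G) := by
    obtain ⟨k, hk⟩ : ∃ k, orderOf y = 2 * k + 1 := ⟨orderOf y / 2, by omega⟩
    refine Subgroup.mem_zpowers_iff.2 ⟨((orderOf y : ℕ) : ℤ), ?_⟩
    rw [zpow_natCast, Subgroup.coe_mul, show ((hW.zC : C) : G) = z from rfl, hcy.mul_pow, hk, pow_succ,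
      pow_mul, show z ^ 2 = 1 by rw [← hW.setup.z2, pow_orderOf_eq_one], one_pow, one_mul, ← hk,
      ← Subgroup.coe_pow, pow_orderOf_eq_one, Subgroup.coe_one, mul_one]
  have hy' : ¬ 2 ∣ orderOf (φ y) := fun h => hy (h.trans (orderOf_map_dvd φ y))
  rw [show z * (y : G) = ((hW.zC * y : C) : G) from rfl, hd _ hzy, map_mul, hW.map_z, gG, WLine.gfn,
    hL.sec_cen_mul _ hy', hd' _ (WPar.half_ne hL.two_le)]
  rw [hW.pt_z, hBz, WPar.mul_half hL.two_le hc, WPar.zeta_half hL.two_le]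
  push_cast
  ring

end WCover

end Cfsg.Agent.InvolChar
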