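import Cfsg.Agent.Lib.InvolChar.WreathInflate

/-!
# Supported functions and quotients by subgroups of odd order

* `exists_two_lift` : a 2-power lift, a power of any given preimage;
* `setup_map` : the image of the centraliser of an involution is the centraliser of its image;
* `ind_comp` : induction of supported functions commutes with inflation;
* `involutions_conj_map` : one class of involutions passes to the quotient.
-/

set_option autoImplicit false
set_option linter.unusedSectionVars false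

namespace Cfsg.Agent.InvolChar

open Subgroup Cfsg Cfsg.Agent.Char

universe u v

variable {J : Type u} [Group J] {N : Type v} [Group N] (π : J →* N)
  (hker : ¬ 2 ∣ Nat.card π.ker) {z : J}

include hker

theorem exists_two_lift [Finite J] {w : J} (hw : π w ^ 2 = 1) :
    ∃ m : ℕ, π (w ^ m) = π w ∧ ∃ j, orderOf (w ^ m) = 2 ^ j := by
  obtain ⟨a, m, hm, he⟩ :=
    Nat.exists_eq_pow_mul_and_not_dvd (orderOf_pos w).ne' 2 (by norm_num)
  refine ⟨m, ?_, a, ?_⟩
  · obtain ⟨c, rfl⟩ : Odd m := Nat.odd_iff.2 (Nat.two_dvd_ne_zero.1 hm)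
    rw [map_pow, pow_succ, pow_mul, hw, one_pow, one_mul]
  · rw [orderOf_pow' _ (fun e : m = 0 => hm (by rw [e]; exact dvd_zero 2)), he, Nat.gcd_eq_right (dvd_mul_left m _)]
    exact Nat.mul_div_cancel _ (Nat.pos_of_ne_zero fun e => hm (e ▸ dvd_zero 2))

theorem orderOf_map_z [Finite J] {C : Subgroup J} (hS : Setup z C) : orderOf (π z) = 2 := by
  rw [orderOf_two_image ⟨1, by rw [hS.z2, pow_one]⟩ π hker, hS.z2]

/-- The image of the centraliser is the centraliser of the image. -/
theorem setup_map [Finite J] (hπ : Function.Surjective π) {C : Subgroup J} (hS : Setup z C) :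
    Setup (π z) (C.map π) := by
  refine ⟨orderOf_map_z π hker hS, fun g => ⟨?_, fun hg => ?_⟩⟩
  · rintro ⟨c, hc, rfl⟩
    exact ((hS.mem c).1 hc).map π
  obtain ⟨g, rfl⟩ := hπ g
  obtain ⟨o, ho, hoz⟩ := lift_conj π hker (u := g * z * g⁻¹) (v := z)
    ⟨1, by rw [SecondMain.orderOf_conj, hS.z2, pow_one]⟩ ⟨1, by rw [hS.z2, pow_one]⟩
    (by rw [map_mul, map_mul, map_inv, ← hg.eq, mul_inv_cancel_right])
  refine ⟨o * g, (hS.mem _).2 ?_, by rw [map_mul, MonoidHom.mem_ker.1 ho, one_mul]⟩
  show z * (o * g) = o * g * z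
  nth_rw 1 [← hoz]
  group

/-- One class of involutions passes to the quotient. -/
theorem involutions_conj_map [Finite J] (hπ : Function.Surjective π)
    (hone : ∀ x : J, orderOf x = 2 → IsConj z x) {x : N} (hx : orderOf x = 2) :
    IsConj (π z) x := by
  obtain ⟨w, rfl⟩ := hπ x
  obtain ⟨m, hm, j, hj⟩ := exists_two_lift π hker (w := w) (orderOf_dvd_iff_pow_eq_one.1 hx.dvd)
  have h2 : orderOf (w ^ m) = 2 := by
    rw [← orderOf_two_image ⟨j, hj⟩ π hker, hm, hx]
  rw [← hm]
  exact MonoidHom.map_isConj π (hone _ h2)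

/-- Induction of a supported function commutes with inflation. -/
theorem ind_comp [Fintype J] [Fintype N] (hπ : Function.Surjective π) {C : Subgroup J} [Fintype C]
    [Fintype (C.map π)] (hS : Setup z C) {f : C.map π → ℂ} (hf : Supp (π z) f) :
    indFun C (fun x : C => f (π.subgroupMap C x)) = fun x : J => indFun (C.map π) f (π x) := by
  classical
  have hS' := setup_map π hker hπ hS
  have hg : Supp z (C := C) fun x : C => f (π.subgroupMap C x) := by
    refine ⟨fun a b => by simp only [map_mul, map_inv]; exact hf.cls _ _, fun a ha => hf.off _ fun h => ha ?_⟩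
    obtain ⟨k, hk⟩ := mem_zpowers_iff.1 h
    have hk' : π ((a : J) ^ k) = π z := by rw [map_zpow]; exact hk
    obtain ⟨m, hm, j, hj⟩ := exists_two_lift π hker (w := (a : J) ^ k)
      (by rw [hk', ← orderOf_map_z π hker hS, pow_orderOf_eq_one])
    obtain ⟨o, ho, hoz⟩ := lift_conj π hker (u := ((a : J) ^ k) ^ m) (v := z) ⟨j, hj⟩
      ⟨1, by rw [hS.z2, pow_one]⟩ (hm.trans hk')
    have hw : Commute (((a : J) ^ k) ^ m) z :=
      (((hS.mem _).1 a.2).symm.zpow_left k).pow_left m
    have h2 : orderOf (((a : J) ^ k) ^ m) = 2 := by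
      rw [← hS.z2, ← hoz, SecondMain.orderOf_conj]
    -- two commuting involutions with the same image are equal
    have hz' : (((a : J) ^ k) ^ m) * z⁻¹ = 1 := by
      refine eq_one_of_two_of_odd ?_ π hker (by rw [map_mul, map_inv, hm.trans hk', mul_inv_cancel])
      have e : (((a : J) ^ k) ^ m * z⁻¹) ^ 2 = 1 := by
        rw [hw.inv_right.mul_pow, inv_pow, orderOf_dvd_iff_pow_eq_one.1 h2.dvd,
          orderOf_dvd_iff_pow_eq_one.1 hS.z2.dvd, inv_one, mul_one]
      rcases (Nat.dvd_prime Nat.prime_two).1 (orderOf_dvd_of_pow_eq_one e) with h | h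
      · exact ⟨0, by rw [h, pow_zero]⟩
      · exact ⟨1, by rw [h, pow_one]⟩
    rw [← mul_inv_eq_one.1 hz']
    exact Subgroup.pow_mem _ (Subgroup.zpow_mem _ (mem_zpowers _) _) _
  funext x
  by_cases hx : ∃ g : J, z ∈ zpowers (g⁻¹ * x * g)
  · obtain ⟨g, hgz⟩ := hx
    set y : C := ⟨g⁻¹ * x * g, hS.mem_of_pow hgz⟩
    have hy : π z ∈ zpowers ((π.subgroupMap C y : C.map π) : N) := by
      obtain ⟨k, hk⟩ := mem_zpowers_iff.1 hgz
      exact mem_zpowers_iff.2 ⟨k, by rw [← hk, map_zpow]; rfl⟩
    have e1 : indFun C (fun x : C => f (π.subgroupMap C x)) x =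
        indFun C (fun x : C => f (π.subgroupMap C x)) y := by
      have := indFun_isClassFunction C (fun x : C => f (π.subgroupMap C x)) x g⁻¹
      rw [inv_inv] at this
      exact this.symm
    have e2 : indFun (C.map π) f (π x) = indFun (C.map π) f (π y) := by
      have := indFun_isClassFunction (C.map π) f (π x) (π g⁻¹)
      rw [map_inv, inv_inv, ← map_inv, ← map_mul, ← map_mul] at this
      exact this.symm
    rw [e1, ind_eq hS hg y hgz, e2, show π (y : J) = ((π.subgroupMap C y : C.map π) : N) from rfl,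
      ind_eq hS' hf _ hy]
  · simp only [not_exists] at hx
    have l0 : indFun C (fun x : C => f (π.subgroupMap C x)) x = 0 := by
      unfold Cfsg.indFun
      rw [Finset.sum_eq_zero fun g _ => ?_, mul_zero]
      rw [extendByZero_eq]
      split_ifs with hm
      · exact hg.off ⟨_, hm⟩ (hx g)
      · rfl
    rw [l0]
    symm
    unfold Cfsg.indFun
    rw [Finset.sum_eq_zero fun g _ => ?_, mul_zero]
    rw [extendByZero_eq]
    split_ifs with hm
    · refine hf.off ⟨_, hm⟩ fun h => ?_
      obtain ⟨g, rfl⟩ := hπ g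
      obtain ⟨k, hk⟩ := mem_zpowers_iff.1 h
      have hk' : π ((g⁻¹ * x * g) ^ k) = π z := by
        rw [map_zpow, map_mul, map_mul, map_inv]; exact hk
      obtain ⟨m, hm', j, hj⟩ := exists_two_lift π hker (w := (g⁻¹ * x * g) ^ k)
        (by rw [hk', ← orderOf_map_z π hker hS, pow_orderOf_eq_one])
      obtain ⟨o, -, hoz⟩ := lift_conj π hker (u := ((g⁻¹ * x * g) ^ k) ^ m) (v := z) ⟨j, hj⟩
        ⟨1, by rw [hS.z2, pow_one]⟩ (hm'.trans hk')
      refine hx (g * o⁻¹) ?_
      rw [← hoz, show (g * o⁻¹)⁻¹ * x * (g * o⁻¹) = o * (g⁻¹ * x * g) * o⁻¹ by group,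
        show o * ((g⁻¹ * x * g) ^ k) ^ m * o⁻¹ = ((o * (g⁻¹ * x * g) * o⁻¹) ^ k) ^ m by
          rw [conj_zpow, conj_pow]]
      exact Subgroup.pow_mem _ (Subgroup.zpow_mem _ (mem_zpowers _) _) _
    · rfl

end Cfsg.Agent.InvolChar
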