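import Cfsg.Agent.Lib.InvolChar.WreathProducer
import Cfsg.Agent.Lib.InvolChar.WreathInflateInd

/-!
# The engine against a subgroup covering the centraliser modulo its odd core, wreathed case

* `constituent_facts` : the degree of a constituent of a character;
* `WCover.exists_kill` : if `J` has one class of involutions, `J ∩ C` covers `H` and `π : J → N` has a
  kernel of odd order, `N` without non-trivial linear characters, then some non-trivial irreducible
  character of `G` is trivial on the kernel of `π`.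
-/

set_option autoImplicit false
set_option linter.unusedSectionVars false
set_option linter.style.haveILetI false

open scoped ComplexConjugate

namespace Cfsg.Agent.InvolChar

open Subgroup Cfsg Cfsg.Agent.Char
open Cfsg.Agent.BrauerPairs (oneIrr)

universe u v

/-- A constituent has no larger degree; equality makes it everything. -/
theorem constituent_facts {A : Type*} [Group A] [Fintype A] {ρ ψ : A → ℂ} (hρ : IsCharacter A ρ)
    (hψ : IsIrrCharacter A ψ) (h : classInner ρ ψ ≠ 0) {a b : ℕ} (ha : ρ 1 = a) (hb : ψ 1 = b) :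
    b ≤ a ∧ (a = b → ρ = ψ) := by
  classical
  haveI : Fintype (IrrCharacter A) := Fintype.ofFinite _
  obtain ⟨m, rfl, hm⟩ := IsCharacter.decompose hρ
  set ψ' : IrrCharacter A := ⟨ψ, hψ⟩
  have hm1 : 1 ≤ m ψ' := Nat.one_le_iff_ne_zero.2 fun e => h (by
    have := hm ψ'
    rw [e, Nat.cast_zero] at this
    exact this)
  have hb' : charDegree (ψ' : A → ℂ) = b := by
    have := apply_one_eq ψ'
    exact_mod_cast (this.symm.trans hb : (charDegree (ψ' : A → ℂ) : ℂ) = b)
  have hsum : ∑ φ : IrrCharacter A, m φ * charDegree (φ : A → ℂ) = a := by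
    simp only [Finset.sum_apply, Pi.smul_apply, smul_eq_mul, apply_one_eq] at ha
    exact_mod_cast ha
  have hsplit := Finset.add_sum_erase Finset.univ (fun φ : IrrCharacter A => m φ * charDegree (φ : A → ℂ))
    (Finset.mem_univ ψ')
  rw [hsum] at hsplit
  simp only [hb'] at hsplit
  refine ⟨(Nat.le_mul_of_pos_left b hm1).trans (hsplit ▸ Nat.le_add_right _ _), fun e => ?_⟩
  have hb0 : b ≠ 0 := fun e0 => IsIrrCharacter.apply_one_ne_zero hψ (by rw [hb, e0, Nat.cast_zero])
  have hge := Nat.le_mul_of_pos_left b hm1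
  have hone : m ψ' = 1 := by
    have : m ψ' * b ≤ 1 * b := by omega
    exact le_antisymm (Nat.le_of_mul_le_mul_right this (Nat.pos_of_ne_zero hb0)) hm1
  have hrest : ∀ φ, φ ≠ ψ' → m φ = 0 := by
    have h0 : ∑ φ ∈ Finset.univ.erase ψ', m φ * charDegree (φ : A → ℂ) = 0 := by omega
    intro φ hφ
    have := Finset.sum_eq_zero_iff.1 h0 φ (Finset.mem_erase.2 ⟨hφ, Finset.mem_univ _⟩)
    rcases Nat.mul_eq_zero.1 this with h' | h'
    · exact h'
    · exfalso
      refine IsIrrCharacter.apply_one_ne_zero φ.2 ?_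
      rw [apply_one_eq, h', Nat.cast_zero]
  rw [Finset.sum_eq_single ψ' (fun φ _ hφ => by rw [hrest φ hφ, Nat.cast_zero, zero_smul])
    (fun hn => absurd (Finset.mem_univ _) hn), hone, Nat.cast_one, one_smul]

variable {G : Type u} [Group G] [Fintype G] {z : G} {C : Subgroup G} [Fintype C]
  {H : Type u} [Group H] [Finite H] {n : ℕ} {φ : C →* H} {pt : ZMod (2 ^ n) × ZMod (2 ^ n) → G} {s : G}
  {ptH : ZMod (2 ^ n) × ZMod (2 ^ n) → H} {sH : H} {X : Type v} [MulAction H X] {q : ℕ} {δ : ℤ}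

namespace WCover

variable (hW : WCover z C φ pt s ptH sH) (hL : WLine H n ptH sH X q δ)
include hW hL

theorem exists_kill (hlin : ∀ χ : IrrCharacter G, (χ : G → ℂ) 1 = 1 → χ = oneIrr G)
    (J : Subgroup G) {N : Type u} [Group N] [Finite N] (π : J →* N) (hπ : Function.Surjective π)
    (hπk : ¬ 2 ∣ Nat.card π.ker) (hpt : ∀ p, pt p ∈ J) (hs : s ∈ J)
    (hcov : ∀ h : H, ∃ x : C, (x : G) ∈ J ∧ φ x = h)
    (hkerC : ∀ (x : J) (hx : (x : G) ∈ C), π x = 1 → φ ⟨(x : G), hx⟩ = 1)
    (hone : ∀ x : J, orderOf x = 2 → IsConj (⟨pt (halfI n, halfI n), hpt _⟩ : J) x)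
    (hswap : ∀ a b, IsConj (⟨pt (a, b), hpt _⟩ : J) ⟨pt (b, a), hpt _⟩)
    (hrot : ∀ a b, IsConj (⟨pt (a, b), hpt _⟩ : J) ⟨pt (b, -a - b), hpt _⟩)
    (hlinN : ∀ χ : IrrCharacter N, (χ : N → ℂ) 1 = 1 → χ = oneIrr N) :
    ∃ B : IrrCharacter G, B ≠ oneIrr G ∧
      ∀ x : J, π x = 1 → (B : G → ℂ) (x : G) = (B : G → ℂ) 1 := by
  classical
  haveI := Fintype.ofFinite H
  haveI := Fintype.ofFinite J
  haveI := Fintype.ofFinite N
  haveI : Fintype (IrrCharacter G) := Fintype.ofFinite _
  haveI : Fintype (IrrCharacter N) := Fintype.ofFinite _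
  haveI := Fact.mk Nat.prime_two
  -- the centraliser inside `J` and its image
  set C0 : Subgroup J := C.subgroupOf J with hC0
  set zJ : J := ⟨z, hW.pt_z ▸ hpt (halfI n, halfI n)⟩ with hzJ
  have hptz : (⟨pt (halfI n, halfI n), hpt _⟩ : J) = zJ := Subtype.ext hW.pt_z
  have hSJ : Setup zJ C0 := by
    refine ⟨by rw [hzJ, Subgroup.orderOf_mk]; exact hW.setup.z2, fun g => ?_⟩
    rw [hC0, mem_subgroupOf, hW.setup.mem]
    exact ⟨fun h => Subtype.ext h.eq, fun h => congrArg Subtype.val h.eq⟩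
  haveI := Fintype.ofFinite C0
  haveI := Fintype.ofFinite (C0.map π)
  let φ0 : C0 →* H :=
    φ.comp ((J.subtype.comp C0.subtype).codRestrict C fun x => mem_subgroupOf.1 x.2)
  have hφ0 : ∀ x : C0, φ0 x = φ ⟨((x : J) : G), mem_subgroupOf.1 x.2⟩ := fun _ => rfl
  have hφ0s : Function.Surjective φ0 := fun h => by
    obtain ⟨x, hxJ, rfl⟩ := hcov h
    exact ⟨⟨⟨x, hxJ⟩, mem_subgroupOf.2 x.2⟩, rfl⟩
  have hle : (π.subgroupMap C0).ker ≤ φ0.ker := fun x hx =>
    hkerC x.1 (mem_subgroupOf.1 x.2) (congrArg Subtype.val (MonoidHom.mem_ker.1 hx))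
  let φN : C0.map π →* H :=
    (π.subgroupMap C0).liftOfSurjective (π.subgroupMap_surjective C0) ⟨φ0, hle⟩
  have hφN : ∀ x : C0, φN (π.subgroupMap C0 x) = φ0 x := fun x =>
    MonoidHom.liftOfRightInverse_comp_apply _ _ _ _ x
  let ptN : ZMod (2 ^ n) × ZMod (2 ^ n) → N := fun p => π ⟨pt p, hpt p⟩
  have hmem : ∀ g : G, ∀ hg : g ∈ J, g ∈ C → π ⟨g, hg⟩ ∈ C0.map π := fun g hg hgC =>
    ⟨⟨g, hg⟩, mem_subgroupOf.2 hgC, rfl⟩
  have hmap : ∀ (g : G) (hg : g ∈ J) (hgC : g ∈ C),
      φN ⟨π ⟨g, hg⟩, hmem g hg hgC⟩ = φ ⟨g, hgC⟩ := fun g hg hgC =>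
    hφN ⟨⟨g, hg⟩, mem_subgroupOf.2 hgC⟩
  have hWN : WCover (π zJ) (C0.map π) φN ptN (π ⟨s, hs⟩) ptH sH :=
    { setup := setup_map π hπk hπ hSJ
      one_class := fun x hx =>
        involutions_conj_map π hπk hπ (fun y hy => hptz ▸ hone y hy) hx
      surj := fun h => by
        obtain ⟨x, rfl⟩ := hφ0s h
        exact ⟨_, hφN x⟩
      ker_odd := fun h2 => by
        have hk : φN.ker ≤ φ0.ker.map (π.subgroupMap C0) := fun y hy => by
          obtain ⟨x, rfl⟩ := π.subgroupMap_surjective C0 y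
          exact ⟨x, MonoidHom.mem_ker.2 ((hφN x).symm.trans (MonoidHom.mem_ker.1 hy)), rfl⟩
        refine hW.ker_odd (h2.trans ((card_dvd_of_le hk).trans
          ((Subgroup.card_dvd_of_surjective _ ((π.subgroupMap C0).subgroupMap_surjective φ0.ker)).trans ?_)))
        exact card_dvd_of_injective
          ((((J.subtype.comp C0.subtype).codRestrict C fun x => mem_subgroupOf.1 x.2).comp
            φ0.ker.subtype).codRestrict φ.ker fun x => x.2)
          fun a b e => Subtype.ext (Subtype.ext (Subtype.ext (congrArg (fun w : φ.ker => ((w : C) : G)) e)))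
      base :=
        { add := fun p r => by
            show π _ = π _ * π _
            rw [← map_mul]; exact congrArg π (Subtype.ext (hW.base.add p r))
          swap := fun a b => MonoidHom.map_isConj π (hswap a b)
          rot := fun a b => MonoidHom.map_isConj π (hrot a b) }
      pt_z := congrArg π hptz
      mem := fun p => hmem _ (hpt p) (hW.mem p)
      mem_s := hmem _ hs hW.mem_s
      map_pt := fun p => (hmap _ (hpt p) (hW.mem p)).trans (hW.map_pt p)
      map_s := (hmap _ hs hW.mem_s).trans hW.map_s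
      two_refl := fun a => by
        obtain ⟨k, hk⟩ := hW.two_refl a
        obtain ⟨j, -, hj⟩ := (Nat.dvd_prime_pow Nat.prime_two).1
          (hk ▸ (Subgroup.orderOf_mk (H := J) (pt (a, 0) * s) (J.mul_mem (hpt _) hs)) ▸
            orderOf_map_dvd π (⟨pt (a, 0) * s, J.mul_mem (hpt _) hs⟩ : J))
        exact ⟨j, hj ▸ congrArg orderOf (map_mul π ⟨pt (a, 0), hpt _⟩ ⟨s, hs⟩).symm⟩ }
  obtain ⟨M, hM⟩ := CentralChar.exists_pModular 2
  obtain ⟨o, hodd, ho⟩ := hL.Q_sub
  have hG := hW.wreathData hL hM hlin ho hodd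
  have hN := hWN.wreathData hL hM hlinN ho hodd
  obtain ⟨B, hBB, hcB, hB1, -⟩ := hG.small_constituent
  obtain ⟨B', -, hcB', hB1', hbig⟩ := hN.small_constituent
  set g : H → ℂ := hL.theta 1 1 with hg
  have hm1 : Odd (1 : ZMod (2 ^ n)) := odd_one
  -- both inner products are computed in `H`
  obtain ⟨d, hd, -⟩ := hW.exists_sect hL hM hBB
  have eG : classInner (fun x : C => (B : G → ℂ) x) (fun x : C => g (φ x)) = 1 := by
    rw [← frobenius_reciprocity' C _ (IsIrrCharacter.isClassFunction B.2), ← classInner_conj_symm,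
      coef_spec (hG.θ_good 1 1 hm1).gc, hcB]
    simp
  have eJ : classInner (fun x : C0 => (B : G → ℂ) ((x : J) : G)) (fun x : C0 => g (φ0 x)) =
      classInner (gG hL pt s (B : G → ℂ) d) g := by
    rw [← RealOdd.classInner_comp_surjective φ0 hφ0s]
    unfold classInner
    congr 1
    refine Finset.sum_congr rfl fun x _ => ?_
    by_cases hx : z ∈ zpowers ((x : J) : G)
    · rw [hd ⟨_, mem_subgroupOf.1 x.2⟩ hx, ← hφ0]
    · have h0 : g (φ0 x) = 0 := (hG.θ_good 1 1 hm1).supp.off ⟨_, mem_subgroupOf.1 x.2⟩ hx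
      rw [h0, map_zero, mul_zero, mul_zero]
  rw [hW.gG_supp hL hd (hG.θ_good 1 1 hm1).supp] at eG
  rw [eG] at eJ
  -- the induced function of `N`
  set BJ : J → ℂ := fun x => (B : G → ℂ) (x : G) with hBJ
  have hBJc : IsCharacter J BJ := IsCharacter.restrict (IsIrrCharacter.isCharacter B.2) J
  set F : N → ℂ := indFun (C0.map π) fun x => g (φN x) with hF
  have hFJ : classInner BJ (fun x => F (π x)) = 1 := by
    rw [hF, ← ind_comp π hπk hπ hSJ (hN.θ_good 1 1 hm1).supp,
      frobenius_reciprocity' C0 _ (IsCharacter.isClassFunction hBJc), ← eJ]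
    simp only [hφN, hg, hBJ]
  have hirr : ∀ χ : IrrCharacter N, IsIrrCharacter J (fun x => (χ : N → ℂ) (π x)) := fun χ =>
    IsIrrCharacter.comp_surjective χ.2 π hπ
  have hexp : classInner BJ (fun x => F (π x)) = ∑ χ : IrrCharacter N,
      (coef (fun x => g (φN x)) χ : ℂ) * classInner BJ (fun x => (χ : N → ℂ) (π x)) := by
    rw [show (fun x => F (π x)) = ∑ χ : IrrCharacter N,
      (coef (fun x => g (φN x)) χ : ℂ) • (fun x : J => (χ : N → ℂ) (π x)) from funext fun x => by
        rw [hF, ind_expand (hN.θ_good 1 1 hm1).gc]; simp [hg], classInner_sum_right]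
    exact Finset.sum_congr rfl fun χ _ => by rw [classInner_smul_right, map_intCast]
  have hB1J : BJ 1 = (charDegree (B : G → ℂ) : ℂ) := by rw [hBJ]; exact apply_one_eq B
  rw [hFJ, Finset.sum_eq_single B' (fun χ _ hne => ?_) (fun h => absurd (Finset.mem_univ _) h)] at hexp
  rotate_left
  · by_cases hc : coef (fun x => g (φN x)) χ = 0
    · rw [hc, Int.cast_zero, zero_mul]
    rw [mul_eq_zero]; right
    by_contra hne'
    have h1 := (constituent_facts hBJc (hirr χ) hne' hB1J
      (b := charDegree (χ : N → ℂ)) (by rw [map_one]; exact apply_one_eq χ)).1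
    have h2 := (hbig χ hc).resolve_left hne
    omega
  rw [hcB', Int.cast_one, one_mul] at hexp
  have heq := (constituent_facts hBJc (hirr B') (by rw [← hexp]; exact one_ne_zero) hB1J
    (b := charDegree (B' : N → ℂ)) (by rw [map_one]; exact apply_one_eq B')).2 (by omega)
  refine ⟨B, fun e => ?_, fun x hx => ?_⟩
  · have : (charDegree (B : G → ℂ) : ℂ) = 1 := by rw [← apply_one_eq, e]; rfl
    have h1 : charDegree (B : G → ℂ) = 1 := by exact_mod_cast this
    have hQ := hG.Q_large
    rw [h1] at hB1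
    push_cast at hB1
    rcases abs_choice (δ * (q : ℤ)) with h | h <;> rw [h] at hQ <;> nlinarith
  · have e1 : BJ x = BJ 1 := by rw [heq]; simp [hx]
    exact e1

end WCover

end Cfsg.Agent.InvolChar
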